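import Mathlib

/-!
Several regular orbits on tuples, from one regular tuple, for solvable groups.
-/

set_option autoImplicit false
set_option linter.unusedSectionVars false
set_option linter.style.haveILetI false

namespace H58.Base

open Matrix
open scoped commutatorElement

/-- A family closed as transvections under commutators is trivial in a solvable group. -/
theorem transvection_family_trivial {K : Type*} [Group K] [Group.IsSolvable K]
    (x : Fin 3 → Fin 3 → K)
    (hx : ∀ i j k, i ≠ j → j ≠ k → i ≠ k → ⁅x i j, x j k⁆ = x i k) :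
    ∀ i k, i ≠ k → x i k = 1 := by
  obtain ⟨n, hn⟩ := ‹Group.IsSolvable K›.solvable
  have h : ∀ n, ∀ i k, i ≠ k → x i k ∈ derivedSeries K n := by
    intro n
    induction n with
    | zero => intro i k _; simp
    | succ n ih =>
      intro i k hik
      obtain ⟨j, hij, hjk⟩ : ∃ j : Fin 3, i ≠ j ∧ j ≠ k := by
        revert i k; decide
      rw [derivedSeries_succ, ← hx i j k hij hjk hik]
      exact Subgroup.commutator_mem_commutator (ih i j hij) (ih j k hjk)
  intro i k hik
  simpa [hn] using h n i k hik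

/-- The Klein four subgroup of `S₄`. -/
def klein : Subgroup (Equiv.Perm (Fin 4)) where
  carrier := {σ | σ = 1 ∨ ∀ i, σ i ≠ i ∧ σ (σ i) = i}
  one_mem' := Or.inl rfl
  mul_mem' := by
    intro a b
    revert a b
    decide +kernel
  inv_mem' := by
    intro a
    revert a
    decide +kernel

theorem isSolvable_perm_four : Group.IsSolvable (Equiv.Perm (Fin 4)) := by
  refine ⟨⟨3, ?_⟩⟩
  have h1 : derivedSeries (Equiv.Perm (Fin 4)) 1 ≤ Equiv.Perm.sign.ker := by
    rw [derivedSeries_one]
    exact Abelianization.commutator_subset_ker _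
  have h2 : derivedSeries (Equiv.Perm (Fin 4)) 2 ≤ klein := by
    rw [derivedSeries_succ]
    refine (Subgroup.commutator_mono h1 h1).trans (Subgroup.commutator_le.2 ?_)
    simp only [MonoidHom.mem_ker]
    intro a ha b hb
    show ⁅a, b⁆ = 1 ∨ _
    revert a b
    decide +kernel
  rw [eq_bot_iff, derivedSeries_succ]
  refine (Subgroup.commutator_mono h2 h2).trans (Subgroup.commutator_le.2 ?_)
  intro a (ha : a = 1 ∨ _) b (hb : b = 1 ∨ _)
  rw [Subgroup.mem_bot]
  revert a b
  decide +kernel

variable {p : ℕ} [Fact p.Prime]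

/-- The transvection with entry `c` at `(i, j)`. -/
def tv {m : ℕ} {i j : Fin m} (h : i ≠ j) (c : ZMod p) : SpecialLinearGroup (Fin m) (ZMod p) :=
  ⟨transvection i j c, det_transvection_of_ne i j h c⟩

theorem tv_mul {m : ℕ} {i j : Fin m} (h : i ≠ j) (a b : ZMod p) :
    tv h a * tv h b = tv h (a + b) :=
  Subtype.ext (transvection_mul_transvection_same i j h a b)

theorem tv_zero {m : ℕ} {i j : Fin m} (h : i ≠ j) : tv h (0 : ZMod p) = 1 :=
  Subtype.ext (transvection_zero i j)

theorem tv_inv {m : ℕ} {i j : Fin m} (h : i ≠ j) (a : ZMod p) : (tv h a)⁻¹ = tv h (-a) :=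
  inv_eq_of_mul_eq_one_right (by rw [tv_mul, add_neg_cancel, tv_zero])

theorem tv_comm {m : ℕ} {i j k : Fin m} (hij : i ≠ j) (hjk : j ≠ k) (hik : i ≠ k) (a b : ZMod p) :
    ⁅tv hij a, tv hjk b⁆ = tv hik (a * b) := by
  rw [commutatorElement_def, tv_inv, tv_inv]
  apply Subtype.ext
  show transvection i j a * transvection j k b * transvection i j (-a) * transvection j k (-b) =
    transvection i k (a * b)
  have hn : ∀ (u v : Fin m) (c : ZMod p), Matrix.single u v (-c) = -Matrix.single u v c := by
    intro u v c; ext s t; simp only [Matrix.single, Matrix.of_apply, Matrix.neg_apply]; split_ifs <;> simp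
  simp only [transvection, hn, add_mul, mul_add, one_mul, mul_one, neg_mul, mul_neg,
    neg_neg, Matrix.single_mul_single_same, Matrix.single_mul_single_of_ne, hij.symm, hjk.symm,
    hik.symm, ne_eq, not_false_eq_true, Matrix.zero_mul, Matrix.mul_zero, zero_add, add_zero,
    neg_zero]
  abel

theorem tv_ne_one {m : ℕ} {i j : Fin m} (h : i ≠ j) : tv h (1 : ZMod p) ≠ 1 := by
  intro e
  have := congrArg (fun A : SpecialLinearGroup (Fin m) (ZMod p) => A.1 i j) e
  simp [tv, transvection, h] at this

theorem tv_pow {m : ℕ} {i j : Fin m} (h : i ≠ j) (a : ZMod p) (k : ℕ) :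
    tv h a ^ k = tv h (k • a) := by
  induction k with
  | zero => rw [pow_zero, zero_nsmul, tv_zero]
  | succ k ih => rw [pow_succ, ih, tv_mul, succ_nsmul]

theorem dvd_card_SL {m : ℕ} (hm : 2 ≤ m) : p ∣ Nat.card (SpecialLinearGroup (Fin m) (ZMod p)) := by
  haveI : NeZero p := ⟨(Fact.out : p.Prime).ne_zero⟩
  have h : (⟨0, by omega⟩ : Fin m) ≠ ⟨1, by omega⟩ := by simp
  have ho : orderOf (tv (p := p) h 1) = p := orderOf_eq_prime
    (by rw [tv_pow, nsmul_one, ZMod.natCast_self, tv_zero]) (tv_ne_one h)
  have := orderOf_dvd_natCard (tv (p := p) h 1)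
  rwa [ho] at this

variable {G W : Type*} [Group G] [AddCommGroup W] [DistribMulAction G W]

/-- A tuple is regular if only the kernel of the action fixes all its members. -/
def Reg (G : Type*) {W ι : Type*} [Group G] [AddCommGroup W] [DistribMulAction G W]
    (t : ι → W) : Prop :=
  ∀ g : G, (∀ i, g • t i = t i) → ∀ x : W, g • x = x

/-- A family of tuples in pairwise different orbits, all regular. -/
def Classes (G : Type*) {W ι κ : Type*} [Group G] [AddCommGroup W] [DistribMulAction G W]
    (t : κ → ι → W) : Prop :=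
  (∀ k, Reg G (t k)) ∧ ∀ k l (g : G), (∀ i, g • t k i = t l i) → k = l

/-- Applying a matrix to a tuple. -/
def mulMat [Module (ZMod p) W] {m : ℕ} (t : Fin m → W) (A : Matrix (Fin m) (Fin m) (ZMod p)) :
    Fin m → W := fun j => ∑ i, A i j • t i

variable [Module (ZMod p) W] {m : ℕ}

theorem mulMat_mul (t : Fin m → W) (A B : Matrix (Fin m) (Fin m) (ZMod p)) :
    mulMat (mulMat t A) B = mulMat t (A * B) := by
  funext j
  simp only [mulMat, Finset.smul_sum, smul_smul, Matrix.mul_apply, Finset.sum_smul]
  rw [Finset.sum_comm]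
  exact Finset.sum_congr rfl fun i _ => Finset.sum_congr rfl fun k _ => by rw [mul_comm]

theorem mulMat_one (t : Fin m → W) : mulMat t (1 : Matrix (Fin m) (Fin m) (ZMod p)) = t := by
  funext j
  simp [mulMat, Matrix.one_apply]

theorem smul_zmod (g : G) (c : ZMod p) (x : W) : g • (c • x) = c • (g • x) :=
  (((DistribSMul.toAddMonoidHom W g).toZModLinearMap p).map_smul c x :)

theorem smul_mulMat (g : G) (t : Fin m → W) (A : Matrix (Fin m) (Fin m) (ZMod p)) :
    (fun j => g • mulMat t A j) = mulMat (fun i => g • t i) A := by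
  funext j
  simp only [mulMat, Finset.smul_sum, smul_zmod]

variable (p G) in
/-- The matrices realised by the group on a tuple. -/
def realised (t : Fin m → W) :
    Subgroup (SpecialLinearGroup (Fin m) (ZMod p)) where
  carrier := {A | ∃ g : G, (fun i => g • t i) = mulMat t A.1}
  one_mem' := ⟨1, by simp [mulMat_one]⟩
  mul_mem' := by
    rintro A B ⟨g, hg⟩ ⟨h, hh⟩
    refine ⟨g * h, ?_⟩
    show _ = mulMat t (A.1 * B.1)
    rw [← mulMat_mul, ← hg, ← smul_mulMat, ← hh]
    simp [mul_smul]
  inv_mem' := by
    rintro A ⟨g, hg⟩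
    refine ⟨g⁻¹, ?_⟩
    have h1 : (fun i => g⁻¹ • mulMat t A.1 i) = t := by rw [← hg]; simp
    rw [smul_mulMat] at h1
    calc (fun i => g⁻¹ • t i) = mulMat (fun i => g⁻¹ • t i) (A.1 * (A⁻¹).1) := by
          rw [show A.1 * (A⁻¹).1 = 1 from congrArg Subtype.val (mul_inv_cancel A), mulMat_one]
      _ = mulMat t (A⁻¹).1 := by rw [← mulMat_mul, h1]

theorem exists_realised_hom (t : Fin m → W) (ht : Reg G t)
    (hind : LinearIndependent (ZMod p) t) :
    ∃ φ : realised p G t →* (MulAction.toPermHom G W).range, Function.Injective φ := by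
  have hmem : ∀ A : realised p G t, ∃ g : G, (fun i => g • t i) = mulMat t A.1.1 := fun A => A.2
  choose g hg using hmem
  have huniq : ∀ a b : G, (fun i => a • t i) = (fun i => b • t i) →
      MulAction.toPermHom G W a = MulAction.toPermHom G W b := by
    intro a b h
    ext x
    have h1 := ht (b⁻¹ * a) (fun i => by rw [mul_smul, congrFun h i, inv_smul_smul]) x
    rw [mul_smul, inv_smul_eq_iff] at h1
    exact h1
  refine ⟨MonoidHom.mk' (fun A => (MulAction.toPermHom G W).rangeRestrict (g A)) (fun A B => ?_),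
    fun A B h => ?_⟩
  · rw [← map_mul]
    apply Subtype.ext
    refine huniq _ _ ?_
    rw [hg]
    show mulMat t (A.1.1 * B.1.1) = _
    rw [← mulMat_mul, ← hg, ← smul_mulMat, ← hg B]
    simp [mul_smul]
  · have h1 : mulMat t A.1.1 = mulMat t B.1.1 := by
      rw [← hg, ← hg]
      funext i
      exact DFunLike.congr_fun (congrArg Subtype.val h) (t i)
    apply Subtype.ext
    apply Subtype.ext
    ext i j
    have h2 : ∑ k, (A.1.1 k j - B.1.1 k j) • t k = 0 := by
      simp only [sub_smul, Finset.sum_sub_distrib]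
      exact sub_eq_zero.2 (congrFun h1 j)
    exact sub_eq_zero.1 (Fintype.linearIndependent_iff.1 hind _ h2 i)

theorem classes_of_index [Finite W] (t : Fin m → W) (ht : Reg G t) {k : ℕ}
    (hk : k ≤ (realised p G t).index) :
    ∃ f : Fin k → Fin m → W, Classes G f := by
  haveI : NeZero p := ⟨(Fact.out : p.Prime).ne_zero⟩
  obtain ⟨e⟩ : Nonempty (Fin k ↪ SpecialLinearGroup (Fin m) (ZMod p) ⧸ realised p G t) := by
    haveI := Fintype.ofFinite (SpecialLinearGroup (Fin m) (ZMod p) ⧸ realised p G t)
    refine Function.Embedding.nonempty_of_card_le ?_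
    rwa [Fintype.card_fin, ← Nat.card_eq_fintype_card]
  refine ⟨fun i => mulMat t ((e i).out⁻¹).1, fun i g hg => ?_, fun i l g hg => ?_⟩
  · refine ht g ?_
    have h1 : mulMat (fun j => g • t j) ((e i).out⁻¹).1 = mulMat t ((e i).out⁻¹).1 := by
      rw [← smul_mulMat]; funext j; exact hg j
    have h2 := congrArg (fun v => mulMat v (e i).out.1) h1
    simp only [mulMat_mul] at h2
    rw [show ((e i).out⁻¹).1 * (e i).out.1 = 1 from congrArg Subtype.val (inv_mul_cancel (e i).out),
      mulMat_one, mulMat_one] at h2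
    exact fun j => congrFun h2 j
  · apply e.injective
    rw [← (e i).out_eq', ← (e l).out_eq', eq_comm, QuotientGroup.eq]
    refine ⟨g, ?_⟩
    have h1 : mulMat (fun j => g • t j) ((e i).out⁻¹).1 = mulMat t ((e l).out⁻¹).1 := by
      rw [← smul_mulMat]; funext j; exact hg j
    have h2 := congrArg (fun v => mulMat v (e i).out.1) h1
    simp only [mulMat_mul] at h2
    rw [show ((e i).out⁻¹).1 * (e i).out.1 = 1 from congrArg Subtype.val (inv_mul_cancel (e i).out),
      mulMat_one] at h2
    exact h2

theorem five_le_index (hs : Group.IsSolvable G) (t : Fin 3 → W) (ht : Reg G t)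
    (hind : LinearIndependent (ZMod p) t) : 5 ≤ (realised p G t).index := by
  haveI : NeZero p := ⟨(Fact.out : p.Prime).ne_zero⟩
  haveI := hs
  by_contra hlt
  obtain ⟨φ, hφ⟩ := exists_realised_hom t ht hind
  haveI : Group.IsSolvable (MulAction.toPermHom G W).range :=
    solvable_of_surjective (MulAction.toPermHom G W).rangeRestrict_surjective
  haveI : Group.IsSolvable (realised p G t) := solvable_of_solvable_injective hφ
  haveI := isSolvable_perm_four
  let Q := SpecialLinearGroup (Fin 3) (ZMod p) ⧸ realised p G t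
  haveI : Fintype Q := Fintype.ofFinite Q
  obtain ⟨e⟩ : Nonempty (Q ↪ Fin 4) := Function.Embedding.nonempty_of_card_le (by
    rw [Fintype.card_fin, ← Nat.card_eq_fintype_card]
    exact Nat.le_of_lt_succ (by simpa [Subgroup.index] using Nat.lt_of_not_le hlt))
  let ψ : SpecialLinearGroup (Fin 3) (ZMod p) →* Equiv.Perm (Fin 4) :=
    (Equiv.Perm.viaEmbeddingHom e).comp (MulAction.toPermHom _ Q)
  have hmem : ∀ (i j : Fin 3) (h : i ≠ j), tv (p := p) h 1 ∈ realised p G t := by
    intro i j h
    have h1 := transvection_family_trivial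
      (fun a b => if h : a = b then 1 else ψ (tv h 1)) (fun a b c hab hbc hac => by
        simp only [dif_neg hab, dif_neg hbc, dif_neg hac, ← map_commutatorElement, tv_comm hab hbc hac,
          mul_one]) i j h
    simp only [dif_neg h] at h1
    have h2 : MulAction.toPermHom _ Q (tv (p := p) h 1) = 1 :=
      Equiv.Perm.viaEmbeddingHom_injective e (h1.trans (map_one _).symm)
    have h3 : tv (p := p) h 1 • ((1 : SpecialLinearGroup (Fin 3) (ZMod p)) : Q) =
        ((1 : SpecialLinearGroup (Fin 3) (ZMod p)) : Q) := by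
      have h4 := DFunLike.congr_fun h2 ((1 : SpecialLinearGroup (Fin 3) (ZMod p)) : Q)
      simpa using h4
    rw [MulAction.Quotient.smul_coe, smul_eq_mul, mul_one, QuotientGroup.eq, mul_one] at h3
    simpa using h3
  have h01 : (0 : Fin 3) ≠ 1 := by decide
  have h1 := transvection_family_trivial
    (fun a b => if h : a = b then 1 else (⟨tv h 1, hmem a b h⟩ : realised p G t))
    (fun a b c hab hbc hac => by
      simp only [dif_neg hab, dif_neg hbc, dif_neg hac]
      apply Subtype.ext
      simp only [commutatorElement_def, Subgroup.coe_mul,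
        Subgroup.coe_inv]
      rw [← commutatorElement_def, tv_comm hab hbc hac, mul_one]) 0 1 h01
  simp only [dif_neg h01] at h1
  exact tv_ne_one h01 (congrArg Subtype.val h1)

theorem prime_le_index [Finite G] [Finite W] (hcop : (Nat.card G).Coprime (Nat.card W)) [Nontrivial W]
    (t : Fin 2 → W) (ht : Reg G t) (hind : LinearIndependent (ZMod p) t) :
    p ≤ (realised p G t).index := by
  haveI : NeZero p := ⟨(Fact.out : p.Prime).ne_zero⟩
  obtain ⟨φ, hφ⟩ := exists_realised_hom t ht hind
  have hH : Nat.card (realised p G t) ∣ Nat.card G :=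
    (Subgroup.card_dvd_of_injective φ hφ).trans (Subgroup.card_range_dvd _)
  have hpW : p ∣ Nat.card W := by
    obtain ⟨x, hx⟩ := exists_ne (0 : W)
    have : addOrderOf x = p := addOrderOf_eq_prime
      (by rw [← Nat.cast_smul_eq_nsmul (ZMod p), ZMod.natCast_self, zero_smul]) hx
    exact this ▸ addOrderOf_dvd_natCard x
  have hnp : ¬ p ∣ Nat.card (realised p G t) := fun h =>
    (Fact.out : p.Prime).not_dvd_one (hcop ▸ Nat.dvd_gcd (h.trans hH) hpW)
  have := dvd_card_SL (p := p) (m := 2) le_rfl
  rw [← Subgroup.card_mul_index (realised p G t)] at this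
  exact Nat.le_of_dvd (Nat.pos_of_ne_zero Subgroup.index_ne_zero_of_finite)
    (((Fact.out : p.Prime).dvd_mul.1 this).resolve_left hnp)

theorem reg_of_dependent {t : Fin m → W} (ht : Reg G t) (hdep : ¬ LinearIndependent (ZMod p) t) :
    ∃ i, ∀ g : G, (∀ j, j ≠ i → g • t j = t j) → ∀ x : W, g • x = x := by
  rw [Fintype.linearIndependent_iff] at hdep
  push Not at hdep
  obtain ⟨c, hc, i, hi⟩ := hdep
  refine ⟨i, fun g hg => ht g fun j => ?_⟩
  rcases eq_or_ne j i with rfl | hj
  · have h1 := congrArg (fun x => g • x) hc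
    simp only [Finset.smul_sum, smul_zero, smul_zmod] at h1
    rw [← Finset.add_sum_erase _ _ (Finset.mem_univ j)] at hc h1
    rw [Finset.sum_congr rfl (fun k hk => by rw [hg k (Finset.ne_of_mem_erase hk)])] at h1
    have h2 : c j • (g • t j) = c j • t j := add_right_cancel (h1.trans hc.symm)
    have h3 := congrArg (fun x => (c j)⁻¹ • x) h2
    simpa [smul_smul, inv_mul_cancel₀ hi] using h3
  · exact hg j hj

end H58.Base
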