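import Cfsg.Agent.H58.Base.Orbits

/-!
Five regular orbits on triples, and several on pairs.
-/

set_option autoImplicit false
set_option linter.style.haveILetI false

namespace H58.Base

variable {p : ℕ} [Fact p.Prime] {G W : Type*} [Group G] [Finite G] [AddCommGroup W] [Finite W]
  [Nontrivial W] [DistribMulAction G W]

theorem four_le_card_of_pair [Module (ZMod p) W] {a b : W}
    (h : LinearIndependent (ZMod p) ![a, b]) : 4 ≤ Nat.card W := by
  have hi := Fintype.linearIndependent_iff.1 h
  have hinj : Function.Injective (fun x : ZMod p × ZMod p => x.1 • a + x.2 • b) := by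
    intro x y e
    have h1 := hi ![x.1 - y.1, x.2 - y.2] (by
      simp only [Fin.sum_univ_two, Matrix.cons_val_zero, Matrix.cons_val_one, sub_smul]
      have e' : x.1 • a + x.2 • b = y.1 • a + y.2 • b := e
      rw [sub_add_sub_comm, e', sub_self])
    exact Prod.ext (sub_eq_zero.1 (h1 0)) (sub_eq_zero.1 (h1 1))
  have h2 := Nat.card_le_card_of_injective _ hinj
  rw [Nat.card_prod, Nat.card_zmod] at h2
  have := (Fact.out : p.Prime).two_le
  nlinarith

/-- A single regular element gives five classes of triples. -/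
theorem five_of_single {a : W} (ha0 : a ≠ 0) (ha : ∀ g : G, g • a = a → ∀ x : W, g • x = x) :
    ∃ t : Fin 5 → W × W × W, (∀ i (g : G), g • t i = t i → ∀ x : W, g • x = x) ∧
      ∀ i j (g : G), g • t i = t j → i = j := by
  refine ⟨![(a, 0, 0), (a, a, 0), (a, 0, a), (a, a, a), (0, a, 0)], fun i g h => ?_,
    fun i j g h => ?_⟩
  · refine ha g ?_
    fin_cases i <;> simp_all [Prod.ext_iff]
  · have hz : g • a ≠ 0 := (smul_ne_zero_iff_ne g).2 ha0
    fin_cases i <;> fin_cases j <;> simp_all [Prod.ext_iff]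

theorem exists_single_or_pair [Module (ZMod p) W] {t : Fin 2 → W} (ht : Reg G t) :
    (∃ a : W, a ≠ 0 ∧ ∀ g : G, g • a = a → ∀ x : W, g • x = x) ∨
      LinearIndependent (ZMod p) t := by
  by_cases hind : LinearIndependent (ZMod p) t
  · exact Or.inr hind
  refine Or.inl ?_
  obtain ⟨i, hi⟩ := reg_of_dependent ht hind
  obtain ⟨x₀, hx₀⟩ := exists_ne (0 : W)
  by_cases hz : t (1 - i) = 0
  · refine ⟨x₀, hx₀, fun g _ => hi g fun j hj => ?_⟩
    have : j = 1 - i := (by decide : ∀ i j : Fin 2, j ≠ i → j = 1 - i) i j hj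
    rw [this, hz, smul_zero]
  · refine ⟨t (1 - i), hz, fun g hg => hi g fun j hj => ?_⟩
    have : j = 1 - i := (by decide : ∀ i j : Fin 2, j ≠ i → j = 1 - i) i j hj
    rw [this, hg]

theorem exists_five_triples (hs : Group.IsSolvable G) (hexp : ∀ v : W, p • v = 0)
    (h : ∃ a b c : W, ∀ g : G, g • a = a → g • b = b → g • c = c → ∀ x : W, g • x = x) :
    ∃ t : Fin 5 → W × W × W, (∀ i (g : G), g • t i = t i → ∀ x : W, g • x = x) ∧
      ∀ i j (g : G), g • t i = t j → i = j := by
  letI : Module (ZMod p) W := AddCommGroup.zmodModule hexp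
  obtain ⟨a, b, c, habc⟩ := h
  have ht : Reg G ![a, b, c] := fun g hg => habc g (hg 0) (hg 1) (hg 2)
  by_cases hind : LinearIndependent (ZMod p) ![a, b, c]
  · obtain ⟨f, hf1, hf2⟩ := classes_of_index (k := 5) ![a, b, c] ht (five_le_index hs _ ht hind)
    refine ⟨fun i => (f i 0, f i 1, f i 2), fun i g hg => ?_, fun i j g hg => hf2 i j g ?_⟩
    · simp only [Prod.smul_mk, Prod.mk.injEq] at hg
      exact hf1 i g fun j => by fin_cases j; exacts [hg.1, hg.2.1, hg.2.2]
    · simp only [Prod.smul_mk, Prod.mk.injEq] at hg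
      intro k; fin_cases k; exacts [hg.1, hg.2.1, hg.2.2]
  -- two of the three suffice
  obtain ⟨u, hu⟩ : ∃ u : Fin 2 → W, Reg G u := by
    obtain ⟨i, hi⟩ := reg_of_dependent ht hind
    refine ⟨fun k => ![a, b, c] (i.succAbove k), fun g hg => hi g fun j hj => ?_⟩
    obtain ⟨k, rfl⟩ := Fin.exists_succAbove_eq hj
    exact hg k
  rcases exists_single_or_pair (p := p) hu with ⟨a', h0, ha'⟩ | hpair
  · exact five_of_single h0 ha'
  have hne : u 0 ≠ u 1 := fun e => absurd (hpair.injective e) (by decide)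
  have hpair' : LinearIndependent (ZMod p) ![u 0, u 1] := by
    rwa [show ![u 0, u 1] = u by funext k; fin_cases k <;> rfl]
  have h4 := four_le_card_of_pair hpair'
  haveI := Fintype.ofFinite W
  obtain ⟨e⟩ : Nonempty (Fin 4 ↪ W) := Function.Embedding.nonempty_of_card_le (by
    rwa [Fintype.card_fin, ← Nat.card_eq_fintype_card])
  refine ⟨Fin.cons (u 0, u 0, u 1) fun k => (u 0, u 1, e k), fun i g hg => hu g fun k => ?_,
    fun i j g hg => ?_⟩
  · refine Fin.cases ?_ (fun l => ?_) i hg <;> intro hg <;>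
      simp only [Fin.cons_zero, Fin.cons_succ, Prod.smul_mk, Prod.mk.injEq] at hg <;>
      fin_cases k <;> simp_all
  · revert hg
    refine Fin.cases ?_ (fun l => ?_) i <;> refine Fin.cases ?_ (fun l' => ?_) j <;> intro hg <;>
      simp only [Fin.cons_zero, Fin.cons_succ, Prod.smul_mk, Prod.mk.injEq] at hg
    · rfl
    · exact absurd (hg.1.symm.trans hg.2.1) hne
    · exact absurd (smul_left_cancel g (hg.1.trans hg.2.1.symm)) hne
    · have hfix := hu g (fun k => by fin_cases k; exacts [hg.1, hg.2.1]) (e l)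
      rw [hfix] at hg
      rw [e.injective hg.2.2]

theorem exists_prime_pairs (hexp : ∀ v : W, p • v = 0)
    (hcop : (Nat.card G).Coprime (Nat.card W))
    (h : ∃ a b : W, ∀ g : G, g • a = a → g • b = b → ∀ x : W, g • x = x) :
    ∃ t : Fin p → W × W, (∀ i (g : G), g • t i = t i → ∀ x : W, g • x = x) ∧
      ∀ i j (g : G), g • t i = t j → i = j := by
  letI : Module (ZMod p) W := AddCommGroup.zmodModule hexp
  obtain ⟨a, b, hab⟩ := h
  have ht : Reg G ![a, b] := fun g hg => hab g (hg 0) (hg 1)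
  rcases exists_single_or_pair (p := p) ht with ⟨a', h0, ha'⟩ | hpair
  · haveI : NeZero p := ⟨(Fact.out : p.Prime).ne_zero⟩
    refine ⟨fun i => (a', (i.val : ZMod p) • a'), fun i g hg => ha' g ?_, fun i j g hg => ?_⟩
    · simp only [Prod.smul_mk, Prod.mk.injEq] at hg
      exact hg.1
    · simp only [Prod.smul_mk, Prod.mk.injEq] at hg
      have h1 : ((i.val : ZMod p) - j.val) • a' = 0 := by
        rw [sub_smul, sub_eq_zero, ← hg.2, smul_zmod, hg.1]
      by_cases h2 : (i.val : ZMod p) - j.val = 0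
      · have := congrArg ZMod.val (sub_eq_zero.1 h2)
        rw [ZMod.val_cast_of_lt i.isLt, ZMod.val_cast_of_lt j.isLt] at this
        exact Fin.ext this
      · have h3 := congrArg (fun x => ((i.val : ZMod p) - j.val)⁻¹ • x) h1
        simp [smul_smul, inv_mul_cancel₀ h2] at h3
        exact absurd h3 h0
  · obtain ⟨f, hf1, hf2⟩ := classes_of_index (k := p) ![a, b] ht (prime_le_index hcop _ ht hpair)
    refine ⟨fun i => (f i 0, f i 1), fun i g hg => ?_, fun i j g hg => hf2 i j g ?_⟩
    · simp only [Prod.smul_mk, Prod.mk.injEq] at hg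
      exact hf1 i g fun j => by fin_cases j; exacts [hg.1, hg.2]
    · simp only [Prod.smul_mk, Prod.mk.injEq] at hg
      intro k; fin_cases k; exacts [hg.1, hg.2]

theorem exists_five_pairs (hexp : ∀ v : W, p • v = 0) (hp : 5 ≤ p)
    (hcop : (Nat.card G).Coprime (Nat.card W))
    (h : ∃ a b : W, ∀ g : G, g • a = a → g • b = b → ∀ x : W, g • x = x) :
    ∃ t : Fin 5 → W × W, (∀ i (g : G), g • t i = t i → ∀ x : W, g • x = x) ∧
      ∀ i j (g : G), g • t i = t j → i = j := by
  obtain ⟨t, h1, h2⟩ := exists_prime_pairs hexp hcop h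
  exact ⟨t ∘ Fin.castLE hp, fun i g hg => h1 _ g hg,
    fun i j g hg => Fin.castLE_injective hp (h2 _ _ g hg)⟩

theorem exists_three_pairs [Fact (Nat.Prime 3)] (hexp : ∀ v : W, 3 • v = 0)
    (hcop : (Nat.card G).Coprime (Nat.card W))
    (h : ∃ a b : W, ∀ g : G, g • a = a → g • b = b → ∀ x : W, g • x = x) :
    ∃ t : Fin 3 → W × W, (∀ i (g : G), g • t i = t i → ∀ x : W, g • x = x) ∧
      ∀ i j (g : G), g • t i = t j → i = j :=
  exists_prime_pairs hexp hcop h

end H58.Base
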